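import Groth.Agent.Lib.PullKFlat16.AcyclicFlat
import Groth.Agent.Lib.ModFlat16.PullFlat
import Groth.Agent.Lib.ModFlat16.PullMono
import Groth.Agent.Lib.ModFlat16.Acyclic
import Groth.Agent.Lib.KFlat.Api
import Groth.Agent.Lib.KFlat.Cone

/-! Inverse images of K-flat complexes of flat modules are K-flat. -/

set_option autoImplicit false
set_option linter.unusedSectionVars false
set_option linter.style.haveILetI false
set_option backward.isDefEq.respectTransparency false
set_option backward.isDefEq.respectTransparency.types false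

universe u

open CategoryTheory CategoryTheory.Limits

noncomputable section

namespace Groth.Agent.PullKFlat16

open Groth.Agent.KFlat.Site

variable {C D : Type u} [SmallCategory C] [SmallCategory D] {J : GrothendieckTopology C}
  {K : GrothendieckTopology D} {O_C : Sheaf J CommRingCat.{u}} {O_D : Sheaf K CommRingCat.{u}}
  (f : ModSite.RMor O_C O_D)

instance preservesColimits_pull : PreservesColimitsOfSize.{0, 0} f.pull :=
  f.adj.leftAdjoint_preservesColimits

instance additive_pull : f.pull.Additive := f.adj.left_adjoint_additive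

/-- The termwise inverse image. -/
abbrev pullCx : CochainComplex (ModSite.Mod O_D) ℤ ⥤ CochainComplex (ModSite.Mod O_C) ℤ :=
  f.pull.mapHomologicalComplex (ComplexShape.up ℤ)

theorem isFlat_pullT {M : ModSite.Mod O_D} (h : KFlat.IsFlat (TS O_D) M) : KFlat.IsFlat (TS O_C) (f.pull.obj M) :=
  (isFlat_iff _).2 (ModFlat16.isFlat_pull ((isFlat_iff M).1 h))

theorem isKFlat_pull_resObj (L : CochainComplex (ModSite.Mod O_D) ℤ) :
    KFlat.IsKFlat (TS O_C) ((pullCx f).obj (KFlat.resObj (cover O_D) L)) := by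
  refine isKFlat_map_colimit (T := TS O_C) f.pull (KFlat.resSeq (cover O_D) L) fun n => ?_
  have := KFlat.stage_isStrictlyLE (cover O_D) (2 * n) (L.truncLE (n : ℤ)) (n : ℤ)
  haveI : ((pullCx f).obj (KFlat.resTerm (cover O_D) L n)).IsStrictlyLE (n : ℤ) := by
    rw [CochainComplex.isStrictlyLE_iff]
    intro i hi
    exact f.pull.map_isZero ((KFlat.resTerm (cover O_D) L n).isZero_of_isStrictlyLE (n : ℤ) i hi)
  exact KFlat.isKFlat_of_boundedAbove_flat ((pullCx f).obj (KFlat.resTerm (cover O_D) L n)) (n : ℤ)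
    fun i => isFlat_pullT f (KFlat.isFlat_stage_X (cover O_D) (isFlat_cover O_D) _ _ i)

theorem isKFlat_pull_of_acyclic {Q : CochainComplex (ModSite.Mod O_D) ℤ} (hQ : Q.Acyclic)
    (hk : KFlat.IsKFlat (TS O_D) Q) (hX : ∀ n, KFlat.IsFlat (TS O_D) (Q.X n)) :
    KFlat.IsKFlat (TS O_C) ((pullCx f).obj Q) := by
  have hz : ∀ n, KFlat.IsFlat (TS O_D) (kernel (Q.d n (n + 1))) := fun n =>
    KFlat.isFlat_cycles_of_symm (cover O_D) (isFlat_cover O_D) hQ hk
      (fun M A B g hg => ((MorphismProperty.monomorphisms _).arrow_mk_iso_iff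
        (Arrow.isoMk ((flipObjIso O_D M).app A) ((flipObjIso O_D M).app B)
          ((flipObjIso O_D M).hom.naturality g).symm)).1 hg) hX n
  refine isKFlat_of_flat_cycles _ (fun n => isFlat_pullT f (hX n)) fun n => ?_
  have hS : ∀ k, ((KFlat.cyclesSC Q k (k + 1)).map f.pull).ShortExact := fun k =>
    ModFlat16.shortExact_pull_of_flat (KFlat.cyclesSC_shortExact hQ k (k + 1) rfl)
      ((isFlat_iff _).1 (hz (k + 1)))
  haveI : Mono (f.pull.map (kernel.ι (Q.d (n + 1) (n + 1 + 1)))) := (hS (n + 1)).mono_f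
  have e : (KFlat.cyclesSC Q n (n + 1)).g ≫ kernel.ι (Q.d (n + 1) (n + 1 + 1)) = Q.d n (n + 1) :=
    kernel.lift_ι _ _ _
  let i₁ : kernel (f.pull.map (Q.d n (n + 1))) ≅ kernel (f.pull.map (KFlat.cyclesSC Q n (n + 1)).g) :=
    kernelIsoOfEq (by rw [← f.pull.map_comp, e]) ≪≫
      kernelCompMono (f.pull.map (KFlat.cyclesSC Q n (n + 1)).g) (f.pull.map (kernel.ι (Q.d (n + 1) (n + 1 + 1))))
  let i₂ : f.pull.obj (kernel (Q.d n (n + 1))) ≅ kernel (f.pull.map (KFlat.cyclesSC Q n (n + 1)).g) :=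
    (hS n).fIsKernel.conePointUniqueUpToIso (limit.isLimit _)
  exact (isFlat_pullT f (hz n)).of_iso (i₁ ≪≫ i₂.symm)

/-- The inverse image of a K-flat complex of flat modules is K-flat. -/
theorem isKFlat_pull {L : CochainComplex (ModSite.Mod O_D) ℤ} (hk : KFlat.IsKFlat (TS O_D) L)
    (hX : ∀ n, KFlat.IsFlat (TS O_D) (L.X n)) : KFlat.IsKFlat (TS O_C) ((pullCx f).obj L) := by
  let R := KFlat.resObj (cover O_D) L
  let q : R ⟶ L := KFlat.resπ (cover O_D) L
  haveI : QuasiIso q := KFlat.quasiIso_resπ (cover O_D) L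
  have hR := KFlat.isKFlat_resObj (cover O_D) L (isFlat_cover O_D)
  let i := KFlat.cylCokerIsoCone q
  have hQ : (CochainComplex.mappingCone q).Acyclic := KFlat.acyclic_of_iso (KFlat.acyclic_cylCoker q) i
  have hQk : KFlat.IsKFlat (TS O_D) (CochainComplex.mappingCone q) :=
    (KFlat.isKFlat_mappingCone_two_out_of_three (T := TS O_D) q).1 hR hk
  have hQX : ∀ n, KFlat.IsFlat (TS O_D) ((CochainComplex.mappingCone q).X n) := fun n =>
    (KFlat.isFlat_cylCoker_X q (KFlat.isFlat_resObj_X (cover O_D) L (isFlat_cover O_D)) hX n).of_iso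
      ((HomologicalComplex.eval _ _ n).mapIso i.symm)
  exact (KFlat.isKFlat_mappingCone_two_out_of_three (T := TS O_C) ((pullCx f).map q)).2.1
    (isKFlat_pull_resObj f L)
    ((isKFlat_pull_of_acyclic f hQ hQk hQX).of_iso (CochainComplex.mappingCone.mapHomologicalComplexIso q f.pull))

end Groth.Agent.PullKFlat16
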