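import Groth.Agent.Lib.KFlat.AcyclicLeft
import Groth.Agent.Lib.KFlat.TwoOfThree

/-! An acyclic complex of flat objects with flat cycles is K-flat; degreewise colimits of complexes. -/

set_option autoImplicit false
set_option linter.unusedSectionVars false
set_option linter.style.haveILetI false

universe v u

open CategoryTheory CategoryTheory.Limits

namespace Groth.Agent.PullKFlat16

open Groth.Agent.KFlat

theorem preservesColimit_mapHomologicalComplex {A B : Type*} [Category* A] [Category* B] [Abelian A] [Abelian B]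
    (F : A ⥤ B) [F.Additive] {K : Type} [SmallCategory K] [HasColimitsOfShape K A] [PreservesColimitsOfShape K F] :
    PreservesColimitsOfShape K (F.mapHomologicalComplex (ComplexShape.up ℤ)) where
  preservesColimit {D} := { preserves := fun {c} hc => ⟨HomologicalComplex.isColimitOfEval _ _ fun i =>
    isColimitOfPreserves F (isColimitOfPreserves (HomologicalComplex.eval A (ComplexShape.up ℤ) i) hc)⟩ }

variable {C : Type u} [Category.{v} C] [Abelian C] [HasColimitsOfSize.{0, 0} C] [AB5OfSize.{0, 0} C]
  {T : C ⥤ C ⥤ C} [T.Additive] [∀ X, (T.obj X).Additive]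
  [∀ X, PreservesColimitsOfSize.{0, 0} (T.obj X)]
  [∀ X, PreservesColimitsOfSize.{0, 0} (T.flip.obj X)]

theorem isKFlat_of_flat_cycles (L : CochainComplex C ℤ) (hX : ∀ n, IsFlat T (L.X n))
    (hZ : ∀ n, IsFlat T (kernel (L.d n (n + 1)))) : IsKFlat T L := by
  refine IsKFlat.colimit (isColimitTruncCocone L) fun n => ?_
  refine isKFlat_of_boundedAbove_flat (L.truncLE (n : ℤ)) (n : ℤ) fun i => ?_
  rcases lt_trichotomy i (n : ℤ) with hi | hi | hi
  · haveI := isIso_ιTruncLE_f L hi
    exact (hX i).of_iso (asIso ((L.ιTruncLE (n : ℤ)).f i))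
  · have hb : (ComplexShape.embeddingUpIntLE (n : ℤ)).BoundaryLE 0 := by
      rw [ComplexShape.boundaryLE_embeddingUpIntLE_iff]
    let e := HomologicalComplex.truncLEXIsoCycles L (ComplexShape.embeddingUpIntLE (n : ℤ))
      (i' := i) (show (ComplexShape.embeddingUpIntLE (n : ℤ)).f 0 = i by simp [hi]) hb
    exact (hZ i).of_iso (e ≪≫ (L.cyclesIsKernel i (i + 1) (by simp)).conePointUniqueUpToIso (limit.isLimit _))
  · exact isFlat_of_isZero ((L.truncLE (n : ℤ)).isZero_of_isStrictlyLE (n : ℤ) i hi)

theorem isKFlat_map_colimit {B : Type*} [Category* B] [Abelian B] [HasColimitsOfSize.{0, 0} B] (F : B ⥤ C)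
    [F.Additive] [PreservesColimitsOfSize.{0, 0} F] (S : ℕ ⥤ CochainComplex B ℤ)
    (h : ∀ n, IsKFlat T ((F.mapHomologicalComplex (ComplexShape.up ℤ)).obj (S.obj n))) :
    IsKFlat T ((F.mapHomologicalComplex (ComplexShape.up ℤ)).obj (colimit S)) :=
  haveI := preservesColimit_mapHomologicalComplex F (K := ℕ)
  IsKFlat.colimit (isColimitOfPreserves (F.mapHomologicalComplex (ComplexShape.up ℤ)) (colimit.isColimit S)) h

end Groth.Agent.PullKFlat16
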